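import Cfsg.Agent.Spor.ThW.D0

set_option autoImplicit false
set_option maxRecDepth 100000000
set_option Elab.async false

namespace Cfsg.Agent.Spor.ThW

theorem TKok : PA.gensOk ThV.A TK 7 = true := by decide +kernel

theorem mk1 : Nat.beq (PA.evw ThV.A ThK.TF [] (PA.evw ThV.A ThK.TQ [0] ThV.A.one)) (nth ThV.A.one TK (Nat.mul 2 0)) = true := by decide +kernel

theorem mk2 : Nat.beq (PA.evw ThV.A ThK.TF [] (PA.evw ThV.A ThK.TQ [2] ThV.A.one)) (nth ThV.A.one TK (Nat.mul 2 1)) = true := by decide +kernel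

theorem mk3 : Nat.beq (PA.evw ThV.A ThK.TF [10, 13, 10, 8, 1, 6, 2, 0] (PA.evw ThV.A ThK.TQ [4, 6, 8] ThV.A.one)) (nth ThV.A.one TK (Nat.mul 2 2)) = true := by decide +kernel

theorem mk4 : Nat.beq (PA.evw ThV.A ThK.TF [8, 5, 12, 6, 4, 0, 3, 0] (PA.evw ThV.A ThK.TQ [8, 12, 14, 16] ThV.A.one)) (nth ThV.A.one TK (Nat.mul 2 3)) = true := by decide +kernel

theorem mk5 : Nat.beq (PA.evw ThV.A ThK.TF [9, 1, 4, 7, 2] (PA.evw ThV.A ThK.TQ [2, 4, 6, 12, 14, 16] ThV.A.one)) (nth ThV.A.one TK (Nat.mul 2 4)) = true := by decide +kernel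

theorem mk6 : Nat.beq (PA.evw ThV.A ThK.TF [3, 8, 7, 2, 1] (PA.evw ThV.A ThK.TQ [4, 6, 14] ThV.A.one)) (nth ThV.A.one TK (Nat.mul 2 5)) = true := by decide +kernel

theorem mk7 : Nat.beq (PA.evw ThV.A ThK.TF [2, 7, 2, 0] (PA.evw ThV.A ThK.TQ [8, 6, 12, 16] ThV.A.one)) (nth ThV.A.one TK (Nat.mul 2 6)) = true := by decide +kernel

theorem cmTQ : allN (fun j => Nat.beq (PA.mul ThV.A (nth ThV.A.one ThK.TQ (2 * j)) ThV.ga) (PA.mul ThV.A ThV.ga (nth ThV.A.one ThK.TQ (2 * j)))) 9 = true := by decide +kernel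

theorem cmTF : allN (fun j => Nat.beq (PA.mul ThV.A (nth ThV.A.one ThK.TF (2 * j)) ThV.ga) (PA.mul ThV.A ThV.ga (nth ThV.A.one ThK.TF (2 * j)))) 7 = true := by decide +kernel

theorem cr : leq (PA.evs ThV.A ThV.TT [[0], [4], [6], [8], [10], [12]]) (PA.evs ThV.A TK [[0], [2], [4], [6], [8], [10]]) = true := by decide +kernel

theorem wa : PA.isW ThV.A ThV.TT [0] ThV.ga = true := by decide +kernel

theorem oa : band (Nat.beq (PA.pw ThV.A ThV.ga 2) ThV.A.one) (PA.neq ThV.A ThV.ga ThV.A.one) = true := by decide +kernel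

theorem sw1 : ThE.D.symW 14 [[]] 1 = true := by decide +kernel

theorem w8 : PA.isW ThV.A ThV.TT [14] ThV.gu = true := by decide +kernel

theorem sw15 : ThE.D.symW 14 [[6, 2, 4, 0, 2], []] 15 = true := by decide +kernel

theorem w9 : PA.isW ThV.A ThV.TT [14, 6, 2, 4, 0, 2, 14] x15 = true := by decide +kernel

theorem sw19 : ThE.D.symW 14 [[11, 4, 0, 2], []] 19 = true := by decide +kernel

theorem w10 : PA.isW ThV.A ThV.TT [14, 11, 4, 0, 2, 14] x19 = true := by decide +kernel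

theorem c12 : band (lall (fun y => Nat.blt y 14) (lapp [] [])) (Nat.beq (PA.evw ThV.A ThV.TT [] (PA.mul ThV.A ThV.A_one ThV.gu)) ThV.gu) = true := by decide +kernel

theorem w13 : PA.isW ThV.A ThV.TT [] ThV.A_one = true := by decide +kernel

theorem w14 : PA.isW ThV.A TK [12] ThV.gu = true := by decide +kernel

theorem c18 : band (lall (fun y => Nat.blt y 14) (lapp [6, 2, 4, 0, 2] (lapp [0] [2, 4, 6, 0, 2, 4, 6, 8, 6, 4, 6, 2, 4, 0, 2, 1, 7, 5, 7]))) (Nat.beq (PA.evw ThV.A ThV.TT [0] (PA.mul ThV.A ThV.gu m16)) (PA.mul ThV.A (PA.mul ThV.A m17 ThV.gu) m16)) = true := by decide +kernel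

theorem b19 : band (Nat.beq (PA.pw ThQ.A (PA.evw ThQ.A ThQ.TT [0] ThQ.A.one) 2) ThQ.A.one) (PA.bad ThQ.A (PA.evw ThQ.A ThQ.TT [0] ThQ.A.one) 2 (PA.evw ThQ.A ThQ.TT [2, 4, 6, 0, 2, 4, 6, 8, 6, 4, 6, 2, 4, 0, 2, 1, 7, 5, 7] ThQ.A.one)) = true := by decide +kernel

theorem w20 : PA.isW ThV.A ThV.TT [6, 2, 4, 0, 2] m16 = true := by decide +kernel

end Cfsg.Agent.Spor.ThW
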