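import Cfsg.Agent.Spor.ThW.D0

set_option autoImplicit false
set_option maxRecDepth 100000000
set_option Elab.async false

namespace Cfsg.Agent.Spor.ThW

theorem w22 : PA.isW ThV.A ThV.TT [2, 4, 6, 0, 2, 4, 6, 8, 6, 4] m21 = true := by decide +kernel

theorem w23 : Nat.beq (PA.evw ThV.A ThV.TT [6, 2, 4, 0, 2, 1, 7, 5, 7] m21) m17 = true := by decide +kernel

theorem c25 : band (lall (fun y => Nat.blt y 14) (lapp [] (lapp [0] [2, 4, 6, 0, 2, 4, 6, 8, 6, 4, 6, 2, 4, 0, 2, 1, 7, 5, 7]))) (Nat.beq (PA.evw ThV.A ThV.TT [0] (PA.mul ThV.A x15 ThV.A_one)) (PA.mul ThV.A (PA.mul ThV.A m17 x15) ThV.A_one)) = true := by decide +kernel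

theorem b26 : band (Nat.beq (PA.pw ThQ.A (PA.evw ThQ.A ThQ.TT [0] ThQ.A.one) 2) ThQ.A.one) (PA.bad ThQ.A (PA.evw ThQ.A ThQ.TT [0] ThQ.A.one) 2 (PA.evw ThQ.A ThQ.TT [2, 4, 6, 0, 2, 4, 6, 8, 6, 4, 6, 2, 4, 0, 2, 1, 7, 5, 7] ThQ.A.one)) = true := by decide +kernel

theorem w27 : PA.isW ThV.A ThV.TT [] ThV.A_one = true := by decide +kernel

theorem w28 : PA.isW ThV.A ThV.TT [2, 4, 6, 0, 2, 4, 6, 8, 6, 4] m21 = true := by decide +kernel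

theorem w29 : Nat.beq (PA.evw ThV.A ThV.TT [6, 2, 4, 0, 2, 1, 7, 5, 7] m21) m17 = true := by decide +kernel

theorem c32 : band (lall (fun y => Nat.blt y 14) (lapp [] [2, 4, 0, 2])) (Nat.beq (PA.evw ThV.A ThV.TT [2, 4, 0, 2] (PA.mul ThV.A ThV.A_one x15)) m31) = true := by decide +kernel

theorem w33 : PA.isW ThV.A ThV.TT [] ThV.A_one = true := by decide +kernel

theorem w34 : PA.isW ThV.A TK [12, 4, 12, 6] m31 = true := by decide +kernel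

theorem c38 : band (lall (fun y => Nat.blt y 14) (lapp [6, 2, 4, 6, 2, 4, 0, 2] (lapp [0] [10, 8, 11, 8, 4, 0]))) (Nat.beq (PA.evw ThV.A ThV.TT [0] (PA.mul ThV.A x19 m36)) (PA.mul ThV.A (PA.mul ThV.A m37 x19) m36)) = true := by decide +kernel

theorem b39 : band (Nat.beq (PA.pw ThQ.A (PA.evw ThQ.A ThQ.TT [0] ThQ.A.one) 2) ThQ.A.one) (PA.bad ThQ.A (PA.evw ThQ.A ThQ.TT [0] ThQ.A.one) 2 (PA.evw ThQ.A ThQ.TT [10, 8, 11, 8, 4, 0] ThQ.A.one)) = true := by decide +kernel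

theorem w40 : PA.isW ThV.A ThV.TT [6, 2, 4, 6, 2, 4, 0, 2] m36 = true := by decide +kernel

theorem w41 : PA.isW ThV.A ThV.TT [10, 8, 11, 8, 4, 0] m37 = true := by decide +kernel

theorem c45 : band (lall (fun y => Nat.blt y 14) (lapp [6, 4, 6, 2, 4, 0, 2] (lapp [0] [8, 2, 4, 0, 2]))) (Nat.beq (PA.evw ThV.A ThV.TT [0] (PA.mul ThV.A x19 m43)) (PA.mul ThV.A (PA.mul ThV.A m44 x19) m43)) = true := by decide +kernel

theorem b46 : band (Nat.beq (PA.pw ThQ.A (PA.evw ThQ.A ThQ.TT [0] ThQ.A.one) 2) ThQ.A.one) (PA.bad ThQ.A (PA.evw ThQ.A ThQ.TT [0] ThQ.A.one) 2 (PA.evw ThQ.A ThQ.TT [8, 2, 4, 0, 2] ThQ.A.one)) = true := by decide +kernel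

theorem w47 : PA.isW ThV.A ThV.TT [6, 4, 6, 2, 4, 0, 2] m43 = true := by decide +kernel

theorem w48 : PA.isW ThV.A ThV.TT [8, 2, 4, 0, 2] m44 = true := by decide +kernel

theorem c52 : band (lall (fun y => Nat.blt y 14) (lapp [6, 0, 2, 4, 6, 2, 4, 0, 2] (lapp [0] [10, 8, 11, 0, 2, 4, 0, 2, 0]))) (Nat.beq (PA.evw ThV.A ThV.TT [0] (PA.mul ThV.A x19 m50)) (PA.mul ThV.A (PA.mul ThV.A m51 x19) m50)) = true := by decide +kernel

theorem b53 : band (Nat.beq (PA.pw ThQ.A (PA.evw ThQ.A ThQ.TT [0] ThQ.A.one) 2) ThQ.A.one) (PA.bad ThQ.A (PA.evw ThQ.A ThQ.TT [0] ThQ.A.one) 2 (PA.evw ThQ.A ThQ.TT [10, 8, 11, 0, 2, 4, 0, 2, 0] ThQ.A.one)) = true := by decide +kernel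

theorem w54 : PA.isW ThV.A ThV.TT [6, 0, 2, 4, 6, 2, 4, 0, 2] m50 = true := by decide +kernel

theorem w55 : PA.isW ThV.A ThV.TT [10, 8, 11, 0, 2, 4, 0, 2, 0] m51 = true := by decide +kernel

end Cfsg.Agent.Spor.ThW
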