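import Cfsg.Agent.Spor.PX14
import Cfsg.Agent.Spor.ThZ
import Cfsg.Agent.Spor.ThQ.Main
import Cfsg.Agent.Spor.ThW.C0
import Cfsg.Agent.Spor.ThW.C1

set_option autoImplicit false
set_option maxRecDepth 100000000
set_option Elab.async false

namespace Cfsg.Agent.Spor.ThW

theorem gTK : ThV.X.Gens TK (atm 7 (ThV.X.gen TK)) :=
  MRep.Gens.of_M TKok (MRep.allM (L := [ThV.ga, ThV.gc, ThV.gd, ThV.ge, ThV.gs, ThV.gt, ThV.gu]) (AllP.cons (ThV.gens 1).1 (AllP.cons (ThV.gens 5).1 (AllP.cons (ThV.gens 7).1 (AllP.cons (ThV.gens 9).1 (AllP.cons (ThV.gens 10).1 (AllP.cons (ThV.gens 12).1 (AllP.cons (ThV.gens 14).1 (AllP.nil)))))))) rfl)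
noncomputable abbrev Y : DCtx ThE.D (ZMod 2) ThD.P ThV.H := ThC.Y ThV.pres
noncomputable abbrev z : ThD.P := ev (atm 7 ThD.p) [0]
theorem memK : ∀ j < 7, ThV.X.gen TK j ∈ ThK.K :=
  gTK.mem_sup ThK.gTQ ThK.gTF (show AllP (fun j => ∃ q w, Nat.beq (PA.evw ThV.A ThK.TF w
    (PA.evw ThV.A ThK.TQ q ThV.A.one)) (nth ThV.A.one TK (Nat.mul 2 j)) = true) [0, 1, 2, 3, 4, 5, 6] from AllP.cons ⟨_, _, mk1⟩ (AllP.cons ⟨_, _, mk2⟩ (AllP.cons ⟨_, _, mk3⟩ (AllP.cons ⟨_, _, mk4⟩ (AllP.cons ⟨_, _, mk5⟩ (AllP.cons ⟨_, _, mk6⟩ (AllP.cons ⟨_, _, mk7⟩ (AllP.nil))))))))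
theorem elz : Y.ψ z = ThV.X.el ThV.ga :=
  ((ThC.hA ThV.pres).ψ_ev (by decide)).trans (ThV.gens.isW wa).2.symm
theorem ordz : orderOf (ThV.X.el ThV.ga) = 2 := (ThV.gens.isW wa).1.ord Nat.prime_two oa
theorem commK : ∀ k ∈ ThK.K, k * ThV.X.el ThV.ga = ThV.X.el ThV.ga * k :=
  comm_sup (ThK.gTQ.comm (ThV.gens.isW wa).1 cmTQ) (ThK.gTF.comm (ThV.gens.isW wa).1 cmTF)
theorem subK : (wsub 7 ThD.p ThD.BW).map Y.ψ ≤ ThK.K := by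
  rw [wsub_map (ThC.hψ ThV.pres), ← wsub_lt (N := 8) _ (by decide +kernel)]
  exact wsub_le (ThV.gens.mem_cross gTK memK cr)
theorem sym1 : ThV.X.M ThV.gu ∧ ThV.X.el ThV.gu = Y.sym 1 :=
  (ThC.hA ThV.pres).symM ThV.gens sw1 rfl w8
theorem sym15 : ThV.X.M x15 ∧ ThV.X.el x15 = Y.sym 15 :=
  (ThC.hA ThV.pres).symM ThV.gens sw15 rfl w9
theorem sym19 : ThV.X.M x19 ∧ ThV.X.el x19 = Y.sym 19 :=
  (ThC.hA ThV.pres).symM ThV.gens sw19 rfl w10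
theorem wb11 : Y.WB ThK.K z 1 (ev (atm 7 ThD.p) []) :=
  (ThC.hA ThV.pres).wit' ThV.gens gTK memK sym1 w13 w14 c12
theorem wb15 : Y.WB ThK.K z 1 (ev (atm 7 ThD.p) [6, 2, 4, 0, 2]) :=
  (ThC.hA ThV.pres).bad ThV.gens sym1 w20 (PA.isW_app (v := [2, 4, 6, 0, 2, 4, 6, 8, 6, 4, 6, 2, 4, 0, 2, 1, 7, 5, 7]) w22 w23 rfl) c18 (ThQ.gens.badW b19)
theorem wb24 : Y.WB ThK.K z 15 (ev (atm 7 ThD.p) []) :=
  (ThC.hA ThV.pres).bad ThV.gens sym15 w27 (PA.isW_app (v := [2, 4, 6, 0, 2, 4, 6, 8, 6, 4, 6, 2, 4, 0, 2, 1, 7, 5, 7]) w28 w29 rfl) c25 (ThQ.gens.badW b26)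
theorem wb30 : Y.WB ThK.K z 15 (ev (atm 7 ThD.p) [2, 4, 0, 2]) :=
  (ThC.hA ThV.pres).wit' ThV.gens gTK memK sym15 w33 w34 c32
theorem wb35 : Y.WB ThK.K z 19 (ev (atm 7 ThD.p) [6, 2, 4, 6, 2, 4, 0, 2]) :=
  (ThC.hA ThV.pres).bad ThV.gens sym19 w40 w41 c38 (ThQ.gens.badW b39)
theorem wb42 : Y.WB ThK.K z 19 (ev (atm 7 ThD.p) [6, 4, 6, 2, 4, 0, 2]) :=
  (ThC.hA ThV.pres).bad ThV.gens sym19 w47 w48 c45 (ThQ.gens.badW b46)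
theorem wb49 : Y.WB ThK.K z 19 (ev (atm 7 ThD.p) [6, 0, 2, 4, 6, 2, 4, 0, 2]) :=
  (ThC.hA ThV.pres).bad ThV.gens sym19 w54 w55 c52 (ThQ.gens.badW b53)

end Cfsg.Agent.Spor.ThW
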